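import Cfsg.Agent.H500.EqQuot
import Cfsg.Agent.Lib.MinNormalNonabelian
set_option linter.all false

/-!
# Minimal normal subgroups when any two `p`-subgroups of the same order are conjugate

* `isSimpleGroup_of_minimal`: a non-abelian minimal normal subgroup of order divisible by `p` is simple.
* `isSimpleGroup_or`: existence of a minimal normal subgroup in a nontrivial group.
-/

set_option autoImplicit false

namespace Cfsg.Agent.H500

open Subgroup Cfsg.Agent.H501 Cfsg.Agent.Lib.MinNormal Cfsg.Agent.Lib.MinNormalNonabelian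

/-- A nontrivial finite group has a minimal normal subgroup inside any nontrivial normal subgroup. -/
theorem exists_minimal_normal {G : Type*} [Group G] [Finite G] (L : Subgroup G) (hL : L.Normal)
    (hL1 : L ≠ ⊥) : ∃ N : Subgroup G, N.Normal ∧ N ≠ ⊥ ∧ N ≤ L ∧
      ∀ M : Subgroup G, M.Normal → M ≤ N → M = ⊥ ∨ M = N := by
  obtain ⟨N, ⟨hN, hN1, hNL⟩, hmin⟩ := Set.exists_min_image
    {N : Subgroup G | N.Normal ∧ N ≠ ⊥ ∧ N ≤ L} (fun N => Nat.card N) (Set.toFinite _) ⟨L, hL, hL1, le_rfl⟩
  refine ⟨N, hN, hN1, hNL, fun M hM hMN => ?_⟩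
  by_cases hM1 : M = ⊥
  · exact Or.inl hM1
  · exact Or.inr (eq_of_le_of_card_ge hMN (hmin M ⟨hM, hM1, hMN.trans hNL⟩))

/-- A non-abelian minimal normal subgroup of order divisible by `p` is simple if all subgroups of order `p`
are conjugate. -/
theorem isSimpleGroup_of_minimal {G : Type*} [Group G] [Finite G] {p : ℕ} [hp : Fact p.Prime]
    (hC : EqConj p G) (N : Subgroup G) [hN : N.Normal]
    (hmin : ∀ M : Subgroup G, M.Normal → M ≤ N → M = ⊥ ∨ M = N)
    (hna : ¬ ∀ x ∈ N, ∀ y ∈ N, Commute x y) (hd : p ∣ Nat.card N) : IsSimpleGroup N := by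
  obtain ⟨⟨T, hT⟩, hind, hsup, hsimple, hcent, hconj⟩ := nonabelian_structure N hmin hna
  have hnorm : ∀ S ∈ minSet N, N ≤ normalizer (S : Set G) := fun S hS => hS.2.2.1
  have hle : ∀ S ∈ minSet N, S ≤ N := fun S hS => hS.1
  -- `p` divides the order of every factor
  have hpT : ∀ S ∈ minSet N, p ∣ Nat.card S := by
    obtain ⟨e⟩ := mulEquiv_pi_of_iSupIndep (K := N) (fun S : minSet N => (S : Subgroup G))
      (fun S S' hne x y hx hy => commute_of_mem hind hnorm hle S.2 S'.2 (fun h => hne (Subtype.ext h)) hx hy)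
      ((sSupIndep_iff _).mp hind) (by rw [← sSup_eq_iSup']; exact hsup)
    have h1 : Nat.card N = Nat.card (∀ S : minSet N, (S : Subgroup G)) := Nat.card_congr e.toEquiv
    have : Fintype (minSet N) := Fintype.ofFinite _
    rw [Nat.card_pi] at h1
    rw [h1] at hd
    obtain ⟨S, -, hS⟩ := (Prime.dvd_finsetProd_iff hp.out.prime _).mp hd
    intro S' hS'
    obtain ⟨g, rfl⟩ := hconj S S.2 S' hS'
    rw [Subgroup.card_map_of_injective (MulAut.conj g).injective]
    exact hS
  have huniq : ∀ S ∈ minSet N, S = T := by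
    intro S hS
    by_contra hne
    obtain ⟨⟨x, hx⟩, hxo⟩ := exists_prime_orderOf_dvd_card' p (hpT T hT)
    obtain ⟨⟨y, hy⟩, hyo⟩ := exists_prime_orderOf_dvd_card' p (hpT S hS)
    have hxo' : orderOf x = p := by rw [← hxo]; exact (orderOf_mk x hx).symm
    have hyo' : orderOf y = p := by rw [← hyo]; exact (orderOf_mk y hy).symm
    have hST : Disjoint S T := hind.pairwiseDisjoint hS hT hne
    have hcomm : Commute x y := commute_of_mem hind hnorm hle hT hS (Ne.symm hne) hx hy
    have hx1 : x ≠ 1 := by
      rintro rfl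
      rw [orderOf_one] at hxo'
      exact hp.out.one_lt.ne hxo'
    have hy1 : y ≠ 1 := by
      rintro rfl
      rw [orderOf_one] at hyo'
      exact hp.out.one_lt.ne hyo'
    have hxy1 : x * y ≠ 1 := by
      intro h
      apply hy1
      have h1 : y ∈ T := by
        rw [eq_inv_of_mul_eq_one_right h]; exact inv_mem hx
      have h2 := hST.le_bot ⟨hy, h1⟩
      simpa using h2
    have hxyp : (x * y) ^ p = 1 := by
      rw [hcomm.mul_pow, ← hxo', pow_orderOf_eq_one, one_mul, hxo', ← hyo', pow_orderOf_eq_one]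
    have hxyo : orderOf (x * y) = p := orderOf_eq_prime hxyp hxy1
    obtain ⟨g, hg⟩ := hC (zpowers x) (zpowers (x * y))
      (IsPGroup.of_card (n := 1) (by rw [Nat.card_zpowers, hxo', pow_one]))
      (IsPGroup.of_card (n := 1) (by rw [Nat.card_zpowers, hxyo, pow_one]))
      (by rw [Nat.card_zpowers, Nat.card_zpowers, hxo', hxyo])
    set U := T.map (MulAut.conj g).toMonoidHom with hU
    have hUm : U ∈ minSet N := map_conj_mem_minSet hT g
    have hxyU : x * y ∈ U := by
      have h1 : x * y ∈ (zpowers x).map (MulAut.conj g).toMonoidHom := hg ▸ mem_zpowers _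
      exact Subgroup.map_mono (zpowers_le.mpr hx) h1
    by_cases hUT : U = T
    · apply hy1
      rw [hUT] at hxyU
      have h1 : y ∈ T := by
        have := mul_mem (inv_mem hx) hxyU
        rwa [inv_mul_cancel_left] at this
      have h2 := hST.le_bot ⟨hy, h1⟩
      simpa using h2
    · apply hx1
      apply hcent T hT x hx
      intro t ht
      have h1 : Commute (x * y) t := commute_of_mem hind hnorm hle hUm hT hUT hxyU ht
      have h2 : Commute y t := commute_of_mem hind hnorm hle hS hT hne hy ht
      have h3 : x = x * y * y⁻¹ := by group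
      rw [h3]
      exact h1.mul_left h2.inv_left
  have hNT : N = T := by
    rw [← hsup]
    apply le_antisymm
    · exact sSup_le fun S hS => (huniq S hS).le
    · exact le_sSup hT
  rw [hNT]
  exact hsimple T hT

end Cfsg.Agent.H500
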