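import Cfsg.Agent.H501.EqOrderNormal
import Cfsg.Agent.OddOrderLocal.CyclicSub
set_option linter.all false

/-!
# Finite groups in which any two `p`-subgroups of the same order are conjugate: quotients

* `exists_lift`: `p`-subgroups of a quotient lift to `p`-subgroups.
* `EqConj.of_surjective`: the condition passes to quotients.
* `EqConj.of_cyclic`: the condition holds when the `p`-subgroups are cyclic.
-/

set_option autoImplicit false

namespace Cfsg.Agent.H500

open Subgroup Cfsg.Agent.H501

/-- The order of a preimage. -/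
theorem card_comap {G Q : Type*} [Group G] [Finite G] [Group Q] (f : G →* Q)
    (hf : Function.Surjective f) (A : Subgroup Q) :
    Nat.card (A.comap f) = Nat.card A * Nat.card f.ker := by
  have hQ : Finite Q := Finite.of_surjective f hf
  have h1 : (A.comap f).index = A.index := A.index_comap_of_surjective hf
  have h2 := Subgroup.card_mul_index (A.comap f)
  have h3 := Subgroup.card_mul_index A
  have h4 := Subgroup.card_mul_index f.ker
  have h5 : f.ker.index = Nat.card Q := by
    rw [Subgroup.index_ker, MonoidHom.range_eq_top.mpr hf, Subgroup.card_top]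
  have h6 : 0 < A.index := Nat.pos_of_ne_zero (Subgroup.index_ne_zero_of_finite)
  apply Nat.eq_of_mul_eq_mul_right h6
  rw [← h1, h2, ← h4, h5, ← h3, h1]
  ring

/-- `p`-subgroups of a quotient lift to `p`-subgroups. -/
theorem exists_lift {G Q : Type*} [Group G] [Finite G] [Group Q] (f : G →* Q)
    (hf : Function.Surjective f) {p : ℕ} [hp : Fact p.Prime] (A : Subgroup Q) (hA : IsPGroup p A) :
    ∃ P : Subgroup G, IsPGroup p P ∧ P.map f = A ∧
      Nat.card P = p ^ (Nat.card A * Nat.card f.ker).factorization p := by
  have hQ : Finite Q := Finite.of_surjective f hf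
  set C : Subgroup G := A.comap f with hC
  obtain ⟨P0⟩ : Nonempty (Sylow p C) := inferInstance
  set P : Subgroup G := (P0 : Subgroup C).map C.subtype with hP
  have hcP : Nat.card P = p ^ (Nat.card C).factorization p := by
    rw [hP, Subgroup.card_map_of_injective C.subtype_injective]
    exact P0.card_eq_multiplicity
  refine ⟨P, P0.isPGroup'.map _, ?_, ?_⟩
  · have hle : P.map f ≤ A := by
      rintro _ ⟨x, ⟨⟨y, hy⟩, -, rfl⟩, rfl⟩
      exact hy
    apply eq_of_le_of_card_ge hle
    -- index is prime to p
    have h1 : (P.map f).relIndex A ∣ P.relIndex C := by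
      have h2 : (P.map f).relIndex A = (P ⊔ f.ker).relIndex C := by
        have h3 : A = C.map f := by
          rw [hC, Subgroup.map_comap_eq_self_of_surjective hf]
        rw [h3, Subgroup.relIndex_map_map]
        congr 1
        rw [sup_eq_left, hC]
        intro x hx
        rw [mem_comap, MonoidHom.mem_ker.mp hx]
        exact A.one_mem
      rw [h2]
      exact Subgroup.relIndex_dvd_of_le_left _ le_sup_left
    have h4 : P.relIndex C = (P0 : Subgroup C).index := by
      rw [hP, Subgroup.relIndex, Subgroup.subgroupOf, Subgroup.comap_map_eq_self_of_injective C.subtype_injective]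
    have h5 : ¬ p ∣ P.relIndex C := by rw [h4]; exact P0.not_dvd_index
    have h6 : Nat.card (P.map f) * (P.map f).relIndex A = Nat.card A := by
      have := Subgroup.relIndex_mul_relIndex ⊥ (P.map f) A bot_le hle
      rwa [Subgroup.relIndex_bot_left, Subgroup.relIndex_bot_left] at this
    obtain ⟨k, hk⟩ := IsPGroup.iff_card.mp hA
    have h7 : (P.map f).relIndex A ∣ p ^ k := hk ▸ Dvd.intro_left _ h6
    obtain ⟨j, -, hj⟩ := (Nat.dvd_prime_pow hp.out).mp h7
    have hj0 : j = 0 := by
      by_contra hne
      exact h5 ((hj ▸ dvd_pow_self p hne : p ∣ (P.map f).relIndex A).trans h1)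
    rw [hj0, pow_zero] at hj
    rw [hj, mul_one] at h6
    exact h6.ge
  · rw [hcP, hC, card_comap f hf]

/-- The condition passes to quotients. -/
theorem EqConj.of_surjective {G Q : Type*} [Group G] [Finite G] [Group Q] {p : ℕ} [hp : Fact p.Prime]
    (hC : EqConj p G) (f : G →* Q) (hf : Function.Surjective f) : EqConj p Q := by
  intro A B hA hB hAB
  obtain ⟨H, hH, rfl, hHc⟩ := exists_lift f hf A hA
  obtain ⟨K, hK, rfl, hKc⟩ := exists_lift f hf B hB
  obtain ⟨g, hg⟩ := hC H K hH hK (by rw [hHc, hKc, hAB])
  refine ⟨f g, ?_⟩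
  rw [hg, Subgroup.map_map, Subgroup.map_map]
  congr 1
  ext x
  simp

/-- The `p`-subgroups of a quotient are quotients of `p`-subgroups, in particular cyclic if all these are. -/
theorem cyclic_of_surjective {G Q : Type*} [Group G] [Finite G] [Group Q] {p : ℕ} [hp : Fact p.Prime]
    (hC : ∀ P : Subgroup G, IsPGroup p P → IsCyclic P) (f : G →* Q) (hf : Function.Surjective f) :
    ∀ P : Subgroup Q, IsPGroup p P → IsCyclic P := by
  intro A hA
  obtain ⟨H, hH, rfl, -⟩ := exists_lift f hf A hA
  have := hC H hH
  exact isCyclic_of_surjective (f.subgroupMap H) (f.subgroupMap_surjective H)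

theorem cyclic_of_injective {G Q : Type*} [Group G] [Group Q] {p : ℕ}
    (hC : ∀ P : Subgroup Q, IsPGroup p P → IsCyclic P) (f : G →* Q) (hf : Function.Injective f) :
    ∀ P : Subgroup G, IsPGroup p P → IsCyclic P := by
  intro A hA
  have := hC (A.map f) (hA.map f)
  exact isCyclic_of_injective (f.subgroupMap A) (by
    intro x y hxy
    have h1 := congrArg Subtype.val hxy
    exact Subtype.ext (hf h1))

/-- The condition holds when the `p`-subgroups are cyclic. -/
theorem EqConj.of_cyclic {G : Type*} [Group G] [Finite G] {p : ℕ} [hp : Fact p.Prime]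
    (hC : ∀ P : Subgroup G, IsPGroup p P → IsCyclic P) : EqConj p G := by
  intro H K hH hK hHK
  obtain ⟨P, hP⟩ := hH.exists_le_sylow
  obtain ⟨Q, hQ⟩ := hK.exists_le_sylow
  obtain ⟨g, hg⟩ := MulAction.exists_smul_eq G P Q
  refine ⟨g, ?_⟩
  have hQc : IsCyclic (Q : Subgroup G) := hC _ Q.isPGroup'
  have hle : H.map (MulAut.conj g).toMonoidHom ≤ (Q : Subgroup G) := by
    rw [← hg]
    rintro _ ⟨x, hx, rfl⟩
    rw [Sylow.coe_subgroup_smul]
    exact Subgroup.smul_mem_pointwise_smul x (MulAut.conj g) _ (hP hx)
  exact OddOrderLocal.CyclicSub.eq_of_card_eq_of_le_cyclic hQc hQ hle (by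
    rw [Subgroup.card_map_of_injective (MulAut.conj g).injective, hHK])

end Cfsg.Agent.H500
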