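import Cfsg.Agent.H500.SocleSimple
import Cfsg.Agent.S4145
import Cfsg.Agent.S0813
import Cfsg.Agent.ClassicalGeometry.PSL2Basic
import Cfsg.Agent.ThreePrime.OrderThree
import Cfsg.Agent.S4025
import Cfsg.Agent.S0205
import Cfsg.Agent.H500.EqQuot
import Cfsg.Agent.H421.Rec.PslFrob
import Cfsg.Agent.Walter.LastCase_mg_m3
import Cfsg.Agent.S1154
import Cfsg.Agent.S1101
import Cfsg.Agent.OddHalf.D4.Spor.J1Out
import Cfsg.Prelude.Def_Spor_J1
import Cfsg.Prelude.Def_LieTwisted
import Cfsg.Agent.LieClassical.FieldTransfer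
import Cfsg.Agent.SmallSimple.KleinFourAut
import Cfsg.Agent.TwoFusion.QuatSolvable
import Cfsg.Agent.LFourA.OddFree
import Cfsg.Agent.S0251
import Cfsg.Agent.S4020
import Cfsg.Agent.H500.AllConj
import Cfsg.Agent.TwoFusion.QuatCoverSL
import Cfsg.Agent.S0201
import Cfsg.Agent.Prune
set_option linter.all false
prune_inst 0x7f00000000000000000000000000000000000000000000000000000000000000000000000000000000000000000000000000000000000000000000000000000000000000000000000000000000000000003fffffffffffffffffffffffffffbeffbdffffffff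
open scoped Cfsg.Agent.FastGrp

-- part: H500/ElemN
section
/-!
# Simple normal subgroups when any two `p`-subgroups of the same order are conjugate

* `not_dvd_index`: the index of a non-abelian simple normal subgroup is not divisible by `p` if the order is.
* `centralizer_eq_bot`: the centralizer is trivial if there are no normal subgroups of odd order.
* `index_dvd_psl`: the index of a normal `PSL₂(q)`.
-/

set_option autoImplicit false

namespace Cfsg.Agent.H500

open Subgroup Cfsg.Agent.H501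

variable {X : Type*} [Group X] [Finite X]

/-- A non-abelian simple group of order divisible by `p` has no normal `p`-complement. -/
theorem no_complement {N : Type*} [Group N] [Finite N] [hs : IsSimpleGroup N] {p : ℕ} [hp : Fact p.Prime]
    (hna : ¬ ∀ x y : N, x * y = y * x) (hd : p ∣ Nat.card N) (h : Cfsg.HasNormalPComplement p N) : False := by
  obtain ⟨P, K, hK, hc⟩ := h
  rcases hK.eq_bot_or_eq_top with h1 | h1
  · subst h1
    have h2 : (P : Subgroup N) = ⊤ := isComplement'_bot_left.mp hc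
    have h3 : IsPGroup p N := by
      have h4 := P.isPGroup'
      rw [h2] at h4
      exact h4.of_equiv topEquiv
    have hnt : Nontrivial (center N) := h3.center_nontrivial
    rcases (inferInstance : (center N).Normal).eq_bot_or_eq_top with h4 | h4
    · exact (Subgroup.nontrivial_iff_ne_bot _).mp hnt h4
    · apply hna
      intro x y
      have h5 : y ∈ center N := h4 ▸ mem_top y
      exact mem_center_iff.mp h5 x
  · subst h1
    have h2 : (P : Subgroup N) = ⊥ := isComplement'_top_left.mp hc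
    have h3 := P.card_eq_multiplicity
    have h4 : Nat.card (P : Subgroup N) = 1 := by rw [h2]; exact Subgroup.card_bot
    have h5 : 1 ≤ (Nat.card N).factorization p := (hp.out.dvd_iff_one_le_factorization Nat.card_pos.ne').mp hd
    have h6 : p ∣ p ^ (Nat.card N).factorization p := dvd_pow_self p (by omega)
    rw [← h3, h4] at h6
    exact hp.out.one_lt.ne' (Nat.dvd_one.mp h6)

/-- The index of a non-abelian simple normal subgroup of order divisible by `p` is prime to `p`. -/
theorem not_dvd_index {p : ℕ} [hp : Fact p.Prime] (hC : EqConj p X) (P : Sylow p X)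
    (hP : IsCyclic (P : Subgroup X) ∨ ∀ a ∈ (P : Subgroup X), a ^ p = 1) (N : Subgroup X) [hN : N.Normal]
    [hs : IsSimpleGroup N] (hna : ¬ ∀ x ∈ N, ∀ y ∈ N, Commute x y) (hd : p ∣ Nat.card N) : ¬ p ∣ N.index := by
  intro hi
  rcases hP with hP | hP
  · obtain ⟨h1, -⟩ := Cfsg.Agent.S4145.result p P hP N hd hi
    exact no_complement (fun h => hna fun x hx y hy =>
      show x * y = y * x from congrArg Subtype.val (h ⟨x, hx⟩ ⟨y, hy⟩)) hd h1
  · have h1 : (P : Subgroup X) ≤ N := fun a ha => hC.mem_of_normal N hd a (hP a ha)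
    have h2 : N.index ∣ (P : Subgroup X).index := index_dvd_of_le h1
    exact P.not_dvd_index (hi.trans h2)

/-- The centralizer of a normal subgroup of even order and trivial centre is trivial. -/
theorem centralizer_eq_bot (hC : EqConj 2 X) (hO : ∀ N : Subgroup X, N.Normal → Odd (Nat.card N) → N = ⊥)
    (N : Subgroup X) [hN : N.Normal] [hs : IsSimpleGroup N] (hna : ¬ ∀ x ∈ N, ∀ y ∈ N, Commute x y)
    (hd : 2 ∣ Nat.card N) : centralizer (N : Set X) = ⊥ := by
  have h2 : Fact (Nat.Prime 2) := ⟨Nat.prime_two⟩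
  have hCn : (centralizer (N : Set X)).Normal := Subgroup.normal_centralizer
  apply hO _ hCn
  rw [← Nat.not_even_iff_odd]
  intro he
  obtain ⟨⟨c, hc⟩, hco⟩ := exists_prime_orderOf_dvd_card' 2 (even_iff_two_dvd.mp he)
  have hco' : orderOf c = 2 := by rw [← hco]; exact (orderOf_mk c hc).symm
  have hcN : c ∈ N := hC.mem_of_normal N hd c (by rw [← hco', pow_orderOf_eq_one])
  have hcZ : (⟨c, hcN⟩ : N) ∈ center N := by
    rw [mem_center_iff]
    intro y
    exact Subtype.ext (mem_centralizer_iff.mp hc y y.2)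
  rcases (inferInstance : (center N).Normal).eq_bot_or_eq_top with h | h
  · rw [h, mem_bot] at hcZ
    have : c = 1 := congrArg Subtype.val hcZ
    rw [this, orderOf_one] at hco'
    omega
  · apply hna
    intro x hx y hy
    have h5 : (⟨y, hy⟩ : N) ∈ center N := h ▸ mem_top _
    exact congrArg Subtype.val (mem_center_iff.mp h5 ⟨x, hx⟩)

omit [Finite X] in
/-- The group embeds in the automorphism group. -/
theorem conjNormal_injective (N : Subgroup X) [hN : N.Normal] (hCN : centralizer (N : Set X) = ⊥) :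
    Function.Injective (MulAut.conjNormal : X →* MulAut N) := by
  rw [injective_iff_map_eq_one]
  intro g hg
  have : g ∈ centralizer (N : Set X) := by
    rw [mem_centralizer_iff]
    intro n hn
    have h1 : (MulAut.conjNormal g : MulAut N) ⟨n, hn⟩ = ⟨n, hn⟩ := by rw [hg]; rfl
    have h2 : g * n * g⁻¹ = n := by
      have := congrArg Subtype.val h1
      rwa [MulAut.conjNormal_apply] at this
    rw [mul_inv_eq_iff_eq_mul] at h2
    exact h2.symm
  rwa [hCN, mem_bot] at this

/-- The index of a normal `PSL₂(q)` with trivial centralizer. -/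
theorem index_dvd_psl (N : Subgroup X) [hN : N.Normal] (hCN : centralizer (N : Set X) = ⊥)
    {F : Type*} [Field F] [Fintype F] (e : N ≃* Matrix.ProjectiveSpecialLinearGroup (Fin 2) F)
    (p f : ℕ) [Fact p.Prime] (hf : 1 ≤ f) (hF : Fintype.card F = p ^ f) (h4 : 4 ≤ p ^ f) :
    N.index ∣ f * Nat.gcd 2 (Fintype.card F - 1) := by
  have h1 : Nat.card X ∣ Nat.card (MulAut N) := card_dvd_of_injective _ (conjNormal_injective N hCN)
  have h2 : Nat.card (MulAut N) = Nat.card (MulAut (Matrix.ProjectiveSpecialLinearGroup (Fin 2) F)) :=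
    Nat.card_congr (MulAut.congr e).toEquiv
  have h3 := Cfsg.Agent.S0813.result p f hf hF 2 le_rfl (fun _ => h4)
  rw [if_pos rfl, one_mul, Cfsg.Agent.ClassicalGeometry.PSL2Basic.card_PGL2,
    ← Cfsg.Agent.ClassicalGeometry.PSL2Basic.card_PSL2_gcd] at h3
  rw [h2, h3, ← N.card_mul_index, Nat.card_congr e.toEquiv] at h1
  have h5 : 0 < Nat.card (Matrix.ProjectiveSpecialLinearGroup (Fin 2) F) := Nat.card_pos
  apply Nat.dvd_of_mul_dvd_mul_left h5
  have h6 : f * (Nat.card (Matrix.ProjectiveSpecialLinearGroup (Fin 2) F) * Nat.gcd 2 (Fintype.card F - 1)) =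
    Nat.card (Matrix.ProjectiveSpecialLinearGroup (Fin 2) F) * (f * Nat.gcd 2 (Fintype.card F - 1)) := by ring
  rwa [h6] at h1

end Cfsg.Agent.H500
end

-- part: H500/ElemSolv
section
/-!
# Elementary abelian Sylow 2-subgroups of order at least 8 when 2-subgroups of equal order are conjugate
-/

set_option autoImplicit false

namespace Cfsg.Agent.H500

open Subgroup Cfsg.Agent.H501

/-- A subgroup is solvable if its intersection with a normal subgroup of odd index is. -/
theorem solvable_of_inf {X : Type*} [Group X] [Finite X] (N : Subgroup X) [N.Normal] (hodd : Odd N.index)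
    (H : Subgroup X) (h : Group.IsSolvable (H ⊓ N : Subgroup X)) : Group.IsSolvable H := by
  have h1 : Group.IsSolvable (X ⧸ N) := Cfsg.Agent.S0205.result (by rwa [← Subgroup.index_eq_card])
  let f : (H ⊓ N : Subgroup X) →* H := Subgroup.inclusion inf_le_left
  let g : H →* X ⧸ N := (QuotientGroup.mk' N).comp H.subtype
  apply Group.isSolvable_of_ker_le_range f g
  intro x hx
  have hx1 : (x : X) ∈ N := (QuotientGroup.eq_one_iff (x : X)).mp hx
  exact ⟨⟨x, x.2, hx1⟩, Subtype.ext rfl⟩

/-- The normalizer of an abelian Sylow 2-subgroup is solvable. -/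
theorem solvable_normalizer {X : Type*} [Group X] [Finite X] (T : Sylow 2 X)
    (hc : ∀ a ∈ (T : Subgroup X), ∀ b ∈ (T : Subgroup X), a * b = b * a) :
    Group.IsSolvable (normalizer ((T : Subgroup X) : Set X)) := by
  set M := normalizer ((T : Subgroup X) : Set X) with hM
  have hTM : (T : Subgroup X) ≤ M := le_normalizer
  have hn : ((T : Subgroup X).subgroupOf M).Normal := Subgroup.normal_subgroupOf_of_le_normalizer le_rfl
  rw [Group.isSolvable_iff_subgroup_quotient ((T : Subgroup X).subgroupOf M)]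
  constructor
  · apply Group.isSolvable_of_comm
    intro a b
    exact Subtype.ext (Subtype.ext (hc a a.2 b b.2))
  · apply Cfsg.Agent.S0205.result
    rw [← Subgroup.index_eq_card]
    rw [← Nat.not_even_iff_odd, even_iff_two_dvd]
    exact (T.subtype hTM).not_dvd_index

/-- The order of the one-dimensional semi-affine group over the field with 32 elements. -/
theorem five_dvd_card : 5 ∣ Nat.card (Cfsg.semiaffineGroup (GaloisField 2 5)) := by
  have h2 : Fact (Nat.Prime 2) := ⟨Nat.prime_two⟩
  rw [LinTrans.card_semiaffine, LinTrans.card_ringAut 2 5 (by norm_num)]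
  exact Dvd.dvd.mul_left (dvd_mul_left 5 _) _

/-- The rank of an elementary abelian Sylow 2-subgroup. -/
theorem rank_cases {X : Type*} [Group X] [Finite X] (hC : EqConj 2 X) (T : Sylow 2 X) (n : ℕ) (hn : 3 ≤ n)
    (hel : Cfsg.IsElementaryAbelian 2 (T : Subgroup X)) (hcard : Nat.card T = 2 ^ n) :
    n = 3 ∨ (n = 5 ∧ 5 ∣ Nat.card X) := by
  have h2 : Fact (Nat.Prime 2) := ⟨Nat.prime_two⟩
  have hc : ∀ a ∈ (T : Subgroup X), ∀ b ∈ (T : Subgroup X), a * b = b * a := fun a ha b hb =>
    congrArg Subtype.val (hel.1.is_comm.comm (⟨a, ha⟩ : (T : Subgroup X)) ⟨b, hb⟩)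
  have hs := solvable_normalizer T hc
  have hKn : (Cfsg.pPrimeCore 2 (normalizer ((T : Subgroup X) : Set X))).Normal := Lib.Cores.pPrimeCore_normal 2
  rcases Cfsg.Agent.S4025.result hC T n hn hel hcard _ rfl
    (Group.isSolvable_of_surjective (QuotientGroup.mk'_surjective _)) with ⟨h, -⟩ | ⟨h, -, ⟨e⟩⟩
  · exact Or.inl h
  · refine Or.inr ⟨h, ?_⟩
    have h1 := five_dvd_card
    rw [← Nat.card_congr e.toEquiv] at h1
    exact (h1.trans (Subgroup.card_quotient_dvd_card _)).trans (Subgroup.card_subgroup_dvd_card _)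

/-- The case of a normal Sylow 2-subgroup of rank at least 3. -/
theorem affine_cases {X : Type*} [Group X] [Finite X] (hC : EqConj 2 X) (hO : Cfsg.oddCore X = ⊥) (T : Sylow 2 X)
    (hT : (T : Subgroup X).Normal) (n : ℕ) (hn : 3 ≤ n)
    (hel : Cfsg.IsElementaryAbelian 2 (T : Subgroup X)) (hcard : Nat.card T = 2 ^ n) :
    Nonempty (X ≃* Cfsg.affineGroup (GaloisField 2 3)) ∨
    Nonempty (X ≃* Cfsg.semiaffineGroup (GaloisField 2 3)) ∨
    Nonempty (X ≃* Cfsg.semiaffineGroup (GaloisField 2 5)) := by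
  have h2 : Fact (Nat.Prime 2) := ⟨Nat.prime_two⟩
  have hc : ∀ a ∈ (T : Subgroup X), ∀ b ∈ (T : Subgroup X), a * b = b * a := fun a ha b hb =>
    congrArg Subtype.val (hel.1.is_comm.comm (⟨a, ha⟩ : (T : Subgroup X)) ⟨b, hb⟩)
  have hs := solvable_normalizer T hc
  have htop : normalizer ((T : Subgroup X) : Set X) = ⊤ := normalizer_eq_top _
  have hKn : (Cfsg.pPrimeCore 2 (normalizer ((T : Subgroup X) : Set X))).Normal := Lib.Cores.pPrimeCore_normal 2
  have hbot : Cfsg.pPrimeCore 2 (normalizer ((T : Subgroup X) : Set X)) = ⊥ := by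
    rw [htop]
    have h1 := Lib.Cores.map_subtype_pPrimeCore (G := X) 2 (N := ⊤) inferInstance
    have h3 : (Cfsg.pPrimeCore 2 X) = ⊥ := hO
    rw [h3, inf_bot_eq] at h1
    exact (Subgroup.map_eq_bot_iff_of_injective _ (Subgroup.subtype_injective _)).mp h1
  have e0 : X ≃* (normalizer ((T : Subgroup X) : Set X)) ⧸ Cfsg.pPrimeCore 2 (normalizer ((T : Subgroup X) : Set X)) :=
    (Subgroup.topEquiv.symm.trans (MulEquiv.subgroupCongr htop.symm)).trans
      (QuotientGroup.quotientBot.symm.trans (QuotientGroup.quotientMulEquivOfEq hbot.symm))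
  rcases Cfsg.Agent.S4025.result hC T n hn hel hcard _ rfl
    (Group.isSolvable_of_surjective (QuotientGroup.mk'_surjective _)) with ⟨-, -, h⟩ | ⟨-, -, ⟨e⟩⟩
  · rcases h rfl with ⟨⟨e⟩⟩ | ⟨⟨e⟩⟩
    · exact Or.inr (Or.inl ⟨e0.trans e⟩)
    · exact Or.inl ⟨e0.trans e⟩
  · exact Or.inr (Or.inr ⟨e0.trans e⟩)

end Cfsg.Agent.H500
end

-- part: H500/ElemType
section
/-!
# The nonabelian case with elementary abelian Sylow 2-subgroups: the linear groups
-/

set_option autoImplicit false

namespace Cfsg.Agent.H500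

open Subgroup Cfsg.Agent.H501 Cfsg.Agent.Walter.Types Cfsg.Agent.Walter.TypeSylow

variable {X : Type*} [Group X] [Finite X]

/-- The setting: a simple normal subgroup, all Sylow subgroups cyclic or of prime exponent. -/
structure Sett (X : Type*) [Group X] [Finite X] (N : Subgroup X) : Prop where
  eq : ∀ p : ℕ, p.Prime → EqConj p X
  odd : ∀ M : Subgroup X, M.Normal → Odd (Nat.card M) → M = ⊥
  syl : ∀ (p : ℕ) [Fact p.Prime] (P : Sylow p X), IsCyclic (P : Subgroup X) ∨ Cfsg.IsElementaryAbelian p (P : Subgroup X)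
  two : ∀ T : Sylow 2 X, Cfsg.IsElementaryAbelian 2 (T : Subgroup X)
  norm : N.Normal
  simple : IsSimpleGroup N
  na : ¬ ∀ x ∈ N, ∀ y ∈ N, Commute x y
  even : 2 ∣ Nat.card N

variable {N : Subgroup X}

theorem Sett.not_dvd (h : Sett X N) {p : ℕ} (hp : p.Prime) (hd : p ∣ Nat.card N) : ¬ p ∣ N.index := by
  have hpF : Fact p.Prime := ⟨hp⟩
  have := h.norm
  have := h.simple
  obtain ⟨P⟩ : Nonempty (Sylow p X) := inferInstance
  refine not_dvd_index (h.eq p hp) P ?_ N h.na hd
  rcases h.syl p P with h1 | h1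
  · exact Or.inl h1
  · exact Or.inr h1.2

theorem Sett.cent (h : Sett X N) : centralizer (N : Set X) = ⊥ := by
  have := h.norm
  have := h.simple
  exact centralizer_eq_bot (h.eq 2 Nat.prime_two) h.odd N h.na h.even

theorem Sett.odd_index (h : Sett X N) : Odd N.index := by
  rw [← Nat.not_even_iff_odd, even_iff_two_dvd]
  exact h.not_dvd Nat.prime_two h.even

theorem Sett.le (h : Sett X N) (T : Sylow 2 X) : (T : Subgroup X) ≤ N := by
  have := h.norm
  have h2 : Fact (Nat.Prime 2) := ⟨Nat.prime_two⟩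
  exact fun a ha => (h.eq 2 Nat.prime_two).mem_of_normal N h.even a ((h.two T).2 a ha)

omit [Finite X] in
/-- If the index is one, the whole group is of the type of `N`. -/
theorem equiv_of_index_one (h : N.index = 1) {Q : Type*} [Group Q] (e : N ≃* Q) : Nonempty (X ≃* Q) :=
  ⟨(Subgroup.topEquiv.symm.trans (MulEquiv.subgroupCongr (index_eq_one.mp h).symm)).trans e⟩

/-- A normal `PSL₂` of index coprime to 6. -/
theorem Sett.index_eq_one (h : Sett X N) {F : Type*} [Field F] [Fintype F]
    (e : N ≃* Matrix.ProjectiveSpecialLinearGroup (Fin 2) F) {p f : ℕ} [hp : Fact p.Prime]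
    (hf : f = 1 ∨ f = 2 ∨ f = 3) (hF : Fintype.card F = p ^ f) (h4 : 4 ≤ p ^ f) : N.index = 1 := by
  have := h.norm
  have h1 := index_dvd_psl N h.cent e p f (by omega) hF h4
  have h2 : ¬ 2 ∣ N.index := h.not_dvd Nat.prime_two h.even
  have h3 : ¬ 3 ∣ N.index := by
    apply h.not_dvd Nat.prime_three
    rw [Nat.card_congr e.toEquiv]
    exact Cfsg.Agent.ThreePrime.OrderThree.three_dvd_card_psl F
  have h5 : N.index ∣ 6 * 2 := by
    refine h1.trans (Nat.mul_dvd_mul ?_ (Nat.gcd_dvd_left 2 _))
    rcases hf with h | h | h <;> subst h <;> norm_num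
  have h6 : N.index ≤ 12 := Nat.le_of_dvd (by norm_num) h5
  generalize N.index = k at *
  interval_cases k <;> omega

/-- Type `PSL₂(q)`, `q ≡ 3, 5 mod 8`: the degree of the field is one or three. -/
theorem Sett.odd_type (h : Sett X N) {F : Type*} [Field F] [Fintype F]
    (hF8 : Fintype.card F % 8 = 3 ∨ Fintype.card F % 8 = 5)
    (e : N ≃* Matrix.ProjectiveSpecialLinearGroup (Fin 2) F) {p f : ℕ} [hp : Fact p.Prime] (hf0 : 1 ≤ f)
    (hF : Fintype.card F = p ^ f) : f = 1 ∨ f = 3 := by
  have hN := h.norm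
  have hsim := h.simple
  have hpodd : p ≠ 2 := by
    rintro rfl
    have h1 : 2 ∣ Fintype.card F := hF ▸ dvd_pow_self 2 (by omega)
    omega
  have hCP : CharP F p := charP_of_card_eq_prime_pow hF
  -- `f` is odd
  have hfodd : ¬ Even f := by
    rintro ⟨k, hk⟩
    have h1 : Fintype.card F = (p ^ k) * (p ^ k) := by rw [hF, hk, pow_add]
    have h2 : (p ^ k) % 8 < 8 := Nat.mod_lt _ (by norm_num)
    have h3 : (p ^ k * p ^ k) % 8 = ((p ^ k) % 8 * ((p ^ k) % 8)) % 8 := Nat.mul_mod _ _ _
    rw [h1, h3] at hF8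
    generalize (p ^ k) % 8 = r at *
    interval_cases r <;> omega
  by_contra hcon
  have hf3 : 3 ≤ f := by
    rcases Nat.lt_or_ge f 3 with h1 | h1
    · interval_cases f
      · omega
      · exact absurd (by decide : Even 2) hfodd
    · exact h1
  -- a Sylow `p`-subgroup of `X`
  obtain ⟨P⟩ : Nonempty (Sylow p X) := inferInstance
  have hcardN : Nat.card N * 2 = p ^ f * ((p ^ f) ^ 2 - 1) := by
    rw [Nat.card_congr e.toEquiv, Cfsg.Agent.ClassicalGeometry.PSL2Basic.card_PSL2_odd F
      (by rw [Nat.odd_iff]; omega), hF]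
  have hcop : Nat.Coprime 2 p := (Nat.coprime_primes Nat.prime_two hp.out).mpr (Ne.symm hpodd)
  have hdN : p ^ f ∣ Nat.card N := by
    have h1 : p ^ f ∣ Nat.card N * 2 := hcardN ▸ Dvd.intro _ rfl
    exact (Nat.Coprime.pow_left f hcop.symm).dvd_of_dvd_mul_right h1
  have hpN : p ∣ Nat.card N := (dvd_pow_self p (by omega)).trans hdN
  have hpi : ¬ p ∣ N.index := h.not_dvd hp.out hpN
  have hnd : ¬ p ∣ ((p ^ f) ^ 2 - 1) := by
    intro h1
    have h2 : p ∣ (p ^ f) ^ 2 := dvd_pow (dvd_pow_self p (by omega)) (by norm_num)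
    have h3 : 1 ≤ (p ^ f) ^ 2 := Nat.one_le_pow _ _ (Nat.pos_of_ne_zero (pow_ne_zero _ hp.out.ne_zero))
    have h4 : p ∣ (p ^ f) ^ 2 - ((p ^ f) ^ 2 - 1) := Nat.dvd_sub h2 h1
    have h5 : (p ^ f) ^ 2 - ((p ^ f) ^ 2 - 1) = 1 := by omega
    rw [h5] at h4
    exact hp.out.one_lt.ne' (Nat.dvd_one.mp h4)
  have hPcard : Nat.card (P : Subgroup X) = p ^ f := by
    obtain ⟨a, ha⟩ := IsPGroup.iff_card.mp P.isPGroup'
    have h1 := N.card_mul_index
    have h2 := (P : Subgroup X).card_mul_index
    have h3 := P.not_dvd_index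
    rw [ha] at h2
    have h4 : p ^ a * (P : Subgroup X).index * 2 = p ^ f * (((p ^ f) ^ 2 - 1) * N.index) := by
      rw [h2, ← h1, mul_right_comm, hcardN]; ring
    have h5 : (Nat.Coprime (p ^ a)) (((p ^ f) ^ 2 - 1) * N.index) := by
      apply Nat.Coprime.pow_left
      apply Nat.Coprime.mul_right
      · exact (Nat.Prime.coprime_iff_not_dvd hp.out).mpr hnd
      · exact (Nat.Prime.coprime_iff_not_dvd hp.out).mpr hpi
    have h6 : (Nat.Coprime (p ^ f)) ((P : Subgroup X).index * 2) := by
      apply Nat.Coprime.pow_left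
      apply Nat.Coprime.mul_right
      · exact (Nat.Prime.coprime_iff_not_dvd hp.out).mpr h3
      · exact hcop.symm
    have h7 : p ^ a ∣ p ^ f := h5.dvd_of_dvd_mul_right (h4 ▸ ((Dvd.intro _ rfl).trans (dvd_of_eq (by ring : p ^ a * ((P : Subgroup X).index * 2) = p ^ a * (P : Subgroup X).index * 2))))
    have h8 : p ^ f ∣ p ^ a := by
      refine h6.dvd_of_dvd_mul_right ?_
      rw [← mul_assoc, h4]
      exact Dvd.intro _ rfl
    rw [ha]
    exact Nat.dvd_antisymm h7 h8
  -- not cyclic
  have hel : Cfsg.IsElementaryAbelian p (P : Subgroup X) := by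
    rcases h.syl p P with h1 | h1
    · exfalso
      obtain ⟨U, hU, hUp⟩ := exists_unip F p
      let U' : Subgroup X := (U.map e.symm.toMonoidHom).map N.subtype
      have hU'c : Nat.card U' = p ^ f := by
        rw [Subgroup.card_map_of_injective N.subtype_injective, ← hF, ← hU,
          Subgroup.card_map_of_injective e.symm.injective]
      have hU'p : ∀ x ∈ U', x ^ p = 1 := by
        rintro _ ⟨_, ⟨y, hy, rfl⟩, rfl⟩
        have h2 := hUp _ hy
        rw [← map_pow, ← map_pow, h2, map_one, map_one]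
      have hU'g : IsPGroup p U' := IsPGroup.of_card hU'c
      obtain ⟨Q, hQ⟩ := hU'g.exists_le_sylow
      have hQc : IsCyclic (Q : Subgroup X) := (Q.equiv P).isCyclic.mpr h1
      have hUc : IsCyclic U' := isCyclic_of_injective (Subgroup.inclusion hQ) (Subgroup.inclusion_injective hQ)
      obtain ⟨g, hg⟩ := hUc.exists_generator
      have h4 : orderOf g = p ^ f := by rw [orderOf_eq_card_of_forall_mem_zpowers hg, hU'c]
      have h5 : orderOf g ∣ p := orderOf_dvd_of_pow_eq_one (Subtype.ext (hU'p g g.2))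
      rw [h4] at h5
      have h6 := Nat.le_of_dvd hp.out.pos h5
      have h7 : p ^ 1 < p ^ f := Nat.pow_lt_pow_right hp.out.one_lt (by omega)
      rw [pow_one] at h7
      omega
    · exact h1
  have hPN : (P : Subgroup X) ≤ N := fun a ha => (h.eq p hp.out).mem_of_normal N hpN a (hel.2 a ha)
  -- the normalizer is solvable
  have hsol : Group.IsSolvable (normalizer ((P : Subgroup X) : Set X)) := by
    apply solvable_of_inf N h.odd_index
    let P' : Sylow p N := P.subtype hPN
    let P'' : Sylow p (Matrix.ProjectiveSpecialLinearGroup (Fin 2) F) := P'.mapSurjective (f := e.toMonoidHom) e.surjective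
    have h1 := Cfsg.Agent.ClassicalGeometry.PSL2Solvable.isSolvable_of_le_normalizer p P'' _ le_rfl
    let K : Subgroup X := normalizer ((P : Subgroup X) : Set X) ⊓ N
    let g : K →* Matrix.ProjectiveSpecialLinearGroup (Fin 2) F := e.toMonoidHom.comp (Subgroup.inclusion inf_le_right)
    have hg : ∀ x : K, g x ∈ normalizer ((P'' : Subgroup (Matrix.ProjectiveSpecialLinearGroup (Fin 2) F)) : Set _) := by
      intro x
      have hcoe : (P'' : Subgroup (Matrix.ProjectiveSpecialLinearGroup (Fin 2) F)) = (P' : Subgroup N).map e.toMonoidHom :=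
        Sylow.coe_mapSurjective _ _
      have h3 : (⟨(x : X), x.2.2⟩ : N) ∈ normalizer ((P' : Subgroup N) : Set N) := by
        rw [mem_normalizer_iff]
        intro y
        have := mem_normalizer_iff.mp x.2.1 (y : X)
        exact this
      rw [hcoe]
      exact le_normalizer_map e.toMonoidHom ⟨_, h3, rfl⟩
    let g' : K →* normalizer ((P'' : Subgroup (Matrix.ProjectiveSpecialLinearGroup (Fin 2) F)) : Set _) :=
      g.codRestrict _ hg
    refine Group.isSolvable_of_isSolvable_injective (f := g') ?_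
    intro a b hab
    have h2 : g a = g b := congrArg Subtype.val hab
    exact Subgroup.inclusion_injective _ (e.injective h2)
  have hKn : (Cfsg.pPrimeCore p (normalizer ((P : Subgroup X) : Set X))).Normal := Lib.Cores.pPrimeCore_normal p
  rcases Cfsg.Agent.S4025.result (h.eq p hp.out) P f hf3 hel hPcard _ rfl
    (Group.isSolvable_of_surjective (QuotientGroup.mk'_surjective _)) with ⟨h1, -⟩ | ⟨-, h1, -⟩
  · exact hcon (Or.inr h1)
  · exact hpodd h1

end Cfsg.Agent.H500
end

-- part: H500/ElemJR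
section
/-!
# The nonabelian case with elementary abelian Sylow 2-subgroups: the Ree groups and `J₁`
-/

set_option autoImplicit false

namespace Cfsg.Agent.H500

open Subgroup Cfsg.Agent.H501

variable {X : Type*} [Group X] [Finite X] {N : Subgroup X}

/-- The Ree groups do not occur: a Sylow 3-subgroup is neither cyclic nor of exponent 3. -/
theorem Sett.not_ree (h : Sett X N) (hR : Cfsg.Lie.IsoRee N) : False := by
  obtain ⟨K, _, _, m, hm, hK, ⟨e⟩⟩ := hR
  have h3 : Fact (Nat.Prime 3) := ⟨Nat.prime_three⟩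
  obtain ⟨-, hU⟩ := Cfsg.Agent.S1101.result (m := m) hK
  have hcount := Cfsg.Agent.S1154.result hm hK
  set U := Cfsg.Lie.chevG2.posUnipotent K ⊓ Cfsg.Lie.twistedG2 K (3 ^ m) with hUdef
  let f : U →* X := N.subtype.comp (e.symm.toMonoidHom.comp (Subgroup.inclusion inf_le_right))
  have hf : Function.Injective f := by
    intro a b hab
    exact Subgroup.inclusion_injective _ (e.symm.injective (N.subtype_injective hab))
  have hUg : IsPGroup 3 U := IsPGroup.of_card (n := (2 * m + 1) * 3) (by rw [hU, ← pow_mul])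
  have hUfin : Finite U := Finite.of_injective f hf
  have hVg : IsPGroup 3 f.range := hUg.of_surjective _ f.rangeRestrict_surjective
  obtain ⟨P, hP⟩ := hVg.exists_le_sylow
  set q := 3 ^ (2 * m + 1) with hq
  have hq27 : 27 ≤ q := by
    have : 3 ^ 3 ≤ 3 ^ (2 * m + 1) := Nat.pow_le_pow_right (by norm_num) (by omega)
    omega
  rcases h.syl 3 P with h1 | h1
  · have hrc : IsCyclic f.range := isCyclic_of_injective (Subgroup.inclusion hP) (Subgroup.inclusion_injective hP)
    have hUc : IsCyclic U := (MonoidHom.ofInjective hf).isCyclic.mpr hrc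
    have : Fintype U := Fintype.ofFinite U
    classical
    have h2 := IsCyclic.card_pow_eq_one_le (α := U) (n := 3) (by norm_num)
    have h4 : Nat.card {u : U // orderOf u = 3} ≤ 3 := by
      rw [Nat.card_eq_fintype_card, Fintype.card_subtype]
      refine le_trans (Finset.card_le_card ?_) h2
      intro u hu
      rw [Finset.mem_filter] at hu ⊢
      exact ⟨hu.1, hu.2 ▸ pow_orderOf_eq_one u⟩
    rw [hcount] at h4
    have h5 : 27 ^ 2 ≤ q ^ 2 := Nat.pow_le_pow_left hq27 2
    omega
  · have h2 : ∀ u : U, u ^ 3 = 1 := by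
      intro u
      apply hf
      rw [map_pow, map_one]
      exact h1.2 _ (hP ⟨u, rfl⟩)
    have h4 : Nat.card {u : U // orderOf u = 3} = Nat.card {u : U // u ≠ 1} := by
      apply Nat.card_congr
      apply Equiv.subtypeEquivRight
      intro u
      constructor
      · rintro h5 rfl
        rw [orderOf_one] at h5
        omega
      · exact fun h5 => orderOf_eq_prime (p := 3) (h2 u) h5
    have h5 : Nat.card {u : U // u ≠ 1} = Nat.card U - 1 := by
      have : Fintype U := Fintype.ofFinite U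
      classical
      rw [Nat.card_eq_fintype_card, Nat.card_eq_fintype_card, Fintype.card_subtype_compl, Fintype.card_subtype_eq]
    rw [h4, h5, hU] at hcount
    have h6 : q ^ 2 < q ^ 3 := Nat.pow_lt_pow_right (by omega) (by norm_num)
    have h7 : 1 ≤ q ^ 2 := Nat.one_le_pow _ _ (by omega)
    omega

/-- A normal `J₁` is the whole group. -/
theorem Sett.j1_index (h : Sett X N) (hJ : Cfsg.Spor.IsoJ1 N) : N.index = 1 := by
  obtain ⟨e⟩ := hJ
  have hn := h.norm
  rw [Subgroup.index_eq_one, eq_top_iff]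
  intro g _
  obtain ⟨k, hk⟩ := Cfsg.Agent.OddHalf.D4.Spor.J1Out.inn (MulAut.congr e (MulAut.conjNormal g))
  have h1 : (MulAut.conjNormal g : MulAut N) = MulAut.conj (e.symm k) := by
    apply (MulAut.congr e).injective
    rw [hk]
    apply MulEquiv.ext
    intro x
    show k * x * k⁻¹ = e (e.symm k * e.symm x * (e.symm k)⁻¹)
    rw [map_mul, map_mul, map_inv, e.apply_symm_apply, e.apply_symm_apply]
  have h2 : (MulAut.conjNormal (((e.symm k : N) : X)⁻¹ * g) : MulAut N) = 1 := by
    rw [map_mul, h1]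
    ext x
    rw [MulAut.mul_apply, MulAut.conjNormal_apply, MulAut.conj_apply]
    simp only [mul_assoc, _root_.Subgroup.coe_mul, _root_.InvMemClass.coe_inv, _root_.inv_mul_cancel_left, _root_.inv_inv, _root_.inv_mul_cancel, _root_.mul_one, _root_.MulAut.one_apply]
  have h3 : ((e.symm k : N) : X)⁻¹ * g = 1 :=
    conjNormal_injective N h.cent (by rw [h2, map_one])
  rw [inv_mul_eq_one] at h3
  rw [← h3]
  exact (e.symm k).2

end Cfsg.Agent.H500
end

-- part: H500/ElemMain
section
/-!
# The nonabelian case with elementary abelian Sylow 2-subgroups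
-/

set_option autoImplicit false

namespace Cfsg.Agent.H500

open Subgroup Cfsg.Agent.H501 Cfsg.Agent.Walter.Types Cfsg.Agent.Walter.TypeSylow Cfsg.Agent.Walter.Main
open Cfsg.Agent.ClassificationK.WalterIso

universe u

variable {X : Type u} [Group X] [Finite X] {N : Subgroup X}

/-- `PSL₂` over isomorphic fields. -/
theorem psl_equiv {F K : Type*} [Field F] [Fintype F] [Field K] [Fintype K] (h : Fintype.card F = Fintype.card K) :
    Nonempty (Matrix.ProjectiveSpecialLinearGroup (Fin 2) F ≃* Matrix.ProjectiveSpecialLinearGroup (Fin 2) K) :=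
  ⟨Cfsg.Agent.LieClassical.FieldTransfer.pslCongr (FiniteField.ringEquivOfCardEq h)⟩

/-- `PSL₂` over the field of the library. -/
theorem psl_galois {F : Type*} [Field F] [Fintype F] (p n : ℕ) [Fact p.Prime] (hn : n ≠ 0)
    (h : Fintype.card F = p ^ n) :
    Nonempty (Matrix.ProjectiveSpecialLinearGroup (Fin 2) F ≃*
      Matrix.ProjectiveSpecialLinearGroup (Fin 2) (GaloisField p n)) := by
  have : Fintype (GaloisField p n) := Fintype.ofFinite _
  apply psl_equiv
  rw [h, ← Nat.card_eq_fintype_card, GaloisField.card p n hn]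

/-- `PSL₂` over the prime field. -/
theorem psl_zmod {F : Type*} [Field F] [Fintype F] (p : ℕ) [Fact p.Prime]
    (h : Fintype.card F = p) :
    Nonempty (Matrix.ProjectiveSpecialLinearGroup (Fin 2) F ≃*
      Matrix.ProjectiveSpecialLinearGroup (Fin 2) (ZMod p)) := by
  apply psl_equiv
  rw [h, ZMod.card]

/-- The conclusion for a nonabelian normal subgroup. -/
theorem Sett.main (hC : CentThm.{u}) (hR : ReeThm.{u}) (h : Sett X N) (hW : _root_.Cfsg.Agent.Walter.Types.WType N) (T : Sylow 2 X) (n : ℕ)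
    (hT : Nat.card T = 2 ^ n) :
    (n ≠ 2 ∧ ((Cfsg.IsJ1 X ∧ IsJR X) ∨
    Nonempty (X ≃* Matrix.ProjectiveSpecialLinearGroup (Fin 2) (GaloisField 2 3)) ∨
    Nonempty (X ≃* MulAut (Matrix.ProjectiveSpecialLinearGroup (Fin 2) (GaloisField 2 5))))) ∨
    (n = 2 ∧ ∃ (p : ℕ) (_ : Fact p.Prime), (p % 8 = 3 ∨ p % 8 = 5) ∧
      (Nonempty (X ≃* Matrix.ProjectiveSpecialLinearGroup (Fin 2) (ZMod p)) ∨
       Nonempty (X ≃* Matrix.ProjectiveSpecialLinearGroup (Fin 2) (GaloisField p 3)))) := by
  have hn := h.norm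
  have hs := h.simple
  have h2 : Fact (Nat.Prime 2) := ⟨Nat.prime_two⟩
  have hna : ¬ IsMulCommutative N := by
    intro hc
    apply h.na
    intro x hx y hy
    exact congrArg Subtype.val (hc.is_comm.comm ⟨x, hx⟩ ⟨y, hy⟩)
  let S : Sylow 2 N := T.subtype (h.le T)
  have hS : Nat.card (S : Subgroup N) = 2 ^ n := by
    rw [← hT]
    exact Nat.card_congr (Subgroup.subgroupOfEquivOfLe (h.le T)).toEquiv
  rcases hW with ⟨F, i1, i2, k, hk, hF, ⟨e⟩⟩ | ⟨F, i1, i2, hF8, hF5, ⟨e⟩⟩ | hJR
  · have h3 := card_sylow_even hF e S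
    rw [hS] at h3
    have h4 : n = k := Nat.pow_right_injective le_rfl h3
    subst h4
    rcases Nat.lt_or_ge n 3 with h5 | h5
    · -- `PSL₂(4) ≅ PSL₂(5)`
      have h6 : n = 2 := by omega
      subst h6
      right
      have h5F : Fact (Nat.Prime 5) := ⟨by norm_num⟩
      obtain ⟨e1⟩ := psl_four_equiv (F := F) (by rw [hF]; norm_num)
      obtain ⟨e2⟩ := equiv_of_index_one (h.index_eq_one e (p := 2) (f := 2) (by omega) hF (by norm_num)) (e.trans e1)
      exact ⟨rfl, 5, h5F, Or.inr (by norm_num), Or.inl ⟨e2⟩⟩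
    · rcases rank_cases (h.eq 2 Nat.prime_two) T n h5 (h.two T) hT with h6 | ⟨h6, h7⟩
      · subst h6
        refine Or.inl ⟨by norm_num, Or.inr (Or.inl ?_)⟩
        obtain ⟨e1⟩ := psl_galois (F := F) 2 3 (by norm_num) hF
        exact equiv_of_index_one (h.index_eq_one e (p := 2) (f := 3) (by omega) hF (by norm_num)) (e.trans e1)
      · subst h6
        refine Or.inl ⟨by norm_num, Or.inr (Or.inr ?_)⟩
        obtain ⟨e1⟩ := psl_galois (F := F) 2 5 (by norm_num) hF
        -- the index is 5
        have hcard : Nat.card N = 32736 := by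
          rw [Nat.card_congr e.toEquiv, Cfsg.Agent.ClassicalGeometry.PSL2Basic.card_PSL2_even F
            (by rw [hF]; decide), hF]
          norm_num
        have h8 : 5 ∣ N.index := by
          have h9 := N.card_mul_index
          rw [← h9, hcard] at h7
          exact (Nat.Coprime.dvd_of_dvd_mul_left (by norm_num) h7)
        have h9 := index_dvd_psl N h.cent e 2 5 (by norm_num) hF (by norm_num)
        have h10 : N.index = 5 := by
          apply Nat.dvd_antisymm _ h8
          rw [hF] at h9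
          norm_num at h9
          exact h9
        have h11 : Nat.card (MulAut N) = Nat.card X := by
          have h12 : Nat.card (MulAut N) = Nat.card (MulAut (Matrix.ProjectiveSpecialLinearGroup (Fin 2) F)) :=
            Nat.card_congr (MulAut.congr e).toEquiv
          have h13 := Cfsg.Agent.S0813.result (F := F) 2 5 (by norm_num) hF 2 le_rfl (fun _ => by norm_num)
          rw [if_pos rfl, one_mul, Cfsg.Agent.ClassicalGeometry.PSL2Basic.card_PGL2, hF] at h13
          rw [h12, h13, ← N.card_mul_index, hcard, h10]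
          norm_num
        have hinj := conjNormal_injective N h.cent
        have hbij : Function.Bijective (MulAut.conjNormal : X →* MulAut N) := by
          have : Finite (MulAut N) := Nat.finite_of_card_ne_zero (by rw [h11]; exact Nat.card_pos.ne')
          rw [Nat.bijective_iff_injective_and_card]
          exact ⟨hinj, h11.symm⟩
        exact ⟨(MulEquiv.ofBijective _ hbij).trans (MulAut.congr (e.trans e1))⟩
  · have h3 := card_sylow_odd hF8 e S
    rw [hS] at h3
    have h4 : n = 2 := Nat.pow_right_injective le_rfl (h3.trans (by norm_num))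
    right
    refine ⟨h4, ?_⟩
    obtain ⟨p, hCP, f, hp, hF⟩ := FiniteField.card' F
    have hpF : Fact p.Prime := ⟨hp⟩
    have hf0 : 1 ≤ (f : ℕ) := f.pos
    generalize (f : ℕ) = f' at *
    have hf := h.odd_type hF8 e hf0 hF
    have h5 : 4 ≤ p ^ f' := by rw [← hF]; omega
    have h6 : N.index = 1 := h.index_eq_one e (by omega) hF h5
    obtain ⟨e1⟩ := equiv_of_index_one h6 e
    refine ⟨p, hpF, ?_, ?_⟩
    · rcases hf with h7 | h7
      · subst h7
        rwa [hF, pow_one] at hF8
      · subst h7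
        have h8 : p % 8 < 8 := Nat.mod_lt _ (by norm_num)
        rw [hF, Nat.pow_mod] at hF8
        generalize p % 8 = r at *
        interval_cases r <;> simp_all only [_root_.Nat.reducePow, _root_.Subgroup.index_eq_one, _root_.Nat.one_le_ofNat, _root_.ne_eq, _root_.OfNat.ofNat_ne_zero, _root_.not_false_eq_true, _root_.zero_pow, _root_.Nat.zero_mod, _root_.OfNat.zero_ne_ofNat, _root_.or_self, _root_.one_pow, _root_.Nat.one_mod, _root_.OfNat.one_ne_ofNat, _root_.Nat.mod_self, _root_.Nat.reduceMod, _root_.Nat.reduceEqDiff, _root_.or_false, _root_.Nat.reduceLT, _root_.or_true]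
    · rcases hf with h7 | h7
      · subst h7
        obtain ⟨e2⟩ := psl_zmod (F := F) p (by rw [hF, pow_one])
        exact Or.inl ⟨e1.trans e2⟩
      · subst h7
        obtain ⟨e2⟩ := psl_galois (F := F) p 3 (by norm_num) hF
        exact Or.inr ⟨e1.trans e2⟩
  · rcases iso_of_isJR hC hR hna hJR with h3 | h3
    · exact (h.not_ree h3).elim
    · have h8 := (card_sylow_JR hJR S).1
      rw [hS] at h8
      refine Or.inl ⟨?_, Or.inl ?_⟩
      · rintro rfl
        omega
      have h4 := h.j1_index h3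
      obtain ⟨e⟩ := h3
      obtain ⟨e1⟩ := equiv_of_index_one h4 e
      obtain ⟨e2⟩ := equiv_of_index_one h4 (MulEquiv.refl N)
      have h5 : IsSimpleGroup X := e2.isSimpleGroup
      exact ⟨⟨h5, by rw [Nat.card_congr e1.toEquiv]; exact Cfsg.Agent.SignalizersComponents.BalEndJ1.card_J1⟩,
        hJR.congr e2.symm⟩

end Cfsg.Agent.H500
end

-- part: H500/ElemAll
section
/-!
# Elementary abelian Sylow 2-subgroups when `p`-subgroups of the same order are conjugate
-/

set_option autoImplicit false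

namespace Cfsg.Agent.H500

open Subgroup Cfsg.Agent.H501 Cfsg.Agent.Walter.Types Cfsg.Agent.Walter.TypeSylow Cfsg.Agent.Walter.Main
open Cfsg.Agent.ClassificationK.WalterIso

universe u

variable {X : Type u} [Group X] [Finite X]

omit [Finite X] in
/-- No normal subgroups of odd order. -/
theorem eq_bot_of_odd (hO : Cfsg.oddCore X = ⊥) (M : Subgroup X) (hM : M.Normal) (h : Odd (Nat.card M)) : M = ⊥ := by
  rw [eq_bot_iff, ← hO]
  exact le_sSup ⟨hM, (Nat.coprime_two_right).mpr h⟩

/-- A normal self-centralizing four-group with conjugate involutions: the alternating group of degree four. -/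
theorem equiv_a4 (hC : EqConj 2 X) (hO : Cfsg.oddCore X = ⊥) (T : Sylow 2 X)
    (hTn : (T : Subgroup X).Normal) (hel : Cfsg.IsElementaryAbelian 2 (T : Subgroup X)) (hT : Nat.card T = 4) :
    Nonempty (X ≃* alternatingGroup (Fin 4)) := by
  have h2 : Fact (Nat.Prime 2) := ⟨Nat.prime_two⟩
  have hc : ∀ a ∈ (T : Subgroup X), ∀ b ∈ (T : Subgroup X), a * b = b * a := fun a ha b hb =>
    congrArg Subtype.val (hel.1.is_comm.comm (⟨a, ha⟩ : (T : Subgroup X)) ⟨b, hb⟩)
  have hcent : centralizer ((T : Subgroup X) : Set X) ≤ (T : Subgroup X) := by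
    have hn : (centralizer ((T : Subgroup X) : Set X)).Normal := Subgroup.normal_centralizer
    apply Cfsg.Agent.LFourA.OddFree.le_of_central hO T
    intro y _ hyT g hg
    exact (mem_centralizer_iff.mp hg y hyT).symm
  have hcentT : centralizer ((T : Subgroup X) : Set X) = (T : Subgroup X) := by
    apply le_antisymm hcent
    intro a ha
    rw [mem_centralizer_iff]
    exact fun b hb => hc b hb a ha
  -- the index divides 6
  let φ : X →* MulAut (T : Subgroup X) := MulAut.conjNormal
  have hker : φ.ker = (T : Subgroup X) := by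
    refine Eq.trans ?_ hcentT
    ext g
    rw [MonoidHom.mem_ker, mem_centralizer_iff]
    constructor
    · intro hg n hn
      have h1 : (MulAut.conjNormal g : MulAut (T : Subgroup X)) ⟨n, hn⟩ = ⟨n, hn⟩ := by
        change φ g ⟨n, hn⟩ = _
        rw [hg]; rfl
      have h3 : g * n * g⁻¹ = n := by
        have := congrArg Subtype.val h1
        rwa [MulAut.conjNormal_apply] at this
      rw [mul_inv_eq_iff_eq_mul] at h3
      exact h3.symm
    · intro hg
      apply MulEquiv.ext
      intro n
      apply Subtype.ext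
      change ((MulAut.conjNormal g : MulAut (T : Subgroup X)) n : X) = n
      rw [MulAut.conjNormal_apply, mul_inv_eq_iff_eq_mul]
      exact (hg n n.2).symm
  have h3 : (T : Subgroup X).index ∣ 6 := by
    have h4 : φ.ker.index ∣ Nat.card (MulAut (T : Subgroup X)) := by
      rw [Subgroup.index_ker]
      exact Subgroup.card_subgroup_dvd_card _
    rw [hker] at h4
    refine h4.trans ((Cfsg.Agent.SmallSimple.KleinFourAut.card_mulAut_dvd (T : Subgroup X)).trans ?_)
    rw [hT]
    exact dvd_of_eq rfl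
  have h4 : ¬ 2 ∣ (T : Subgroup X).index := T.not_dvd_index
  -- the index is not one
  have h5 : (T : Subgroup X).index ≠ 1 := by
    intro h6
    rw [Subgroup.index_eq_one] at h6
    have hall : ∀ a b : X, a * b = b * a := fun a b => hc a (h6 ▸ mem_top a) b (h6 ▸ mem_top b)
    have hcard : Nat.card X = 4 := by
      rw [← hT, h6]; exact Subgroup.card_top.symm
    obtain ⟨a, ha⟩ := exists_prime_orderOf_dvd_card' (G := X) 2 (by rw [hcard]; norm_num)
    -- all elements of order two generate the same subgroup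
    have hone : ∀ b : X, b = 1 ∨ b = a := by
      intro b
      by_cases hb : b = 1
      · exact Or.inl hb
      right
      have hb2 : b ^ 2 = 1 := hel.2 b (h6 ▸ mem_top b)
      have hbo : orderOf b = 2 := orderOf_eq_prime hb2 hb
      obtain ⟨g, hg⟩ := hC (zpowers a) (zpowers b)
        (IsPGroup.of_card (n := 1) (by rw [Nat.card_zpowers, ha, pow_one]))
        (IsPGroup.of_card (n := 1) (by rw [Nat.card_zpowers, hbo, pow_one]))
        (by rw [Nat.card_zpowers, Nat.card_zpowers, ha, hbo])
      have h7 : b ∈ (zpowers a).map (MulAut.conj g).toMonoidHom := hg ▸ mem_zpowers b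
      obtain ⟨c, hc1, hc2⟩ := h7
      have hc3 : g * c * g⁻¹ = b := hc2
      rw [hall g c, mul_inv_cancel_right] at hc3
      rw [hc3] at hc1
      rcases (Subgroup.mem_zpowers_iff.mp hc1) with ⟨k, hk⟩
      rw [← zpow_mod_orderOf, ha] at hk
      rcases Int.emod_two_eq_zero_or_one k with h8 | h8
      · push_cast at hk
        rw [h8, zpow_zero] at hk
        exact absurd hk.symm hb
      · push_cast at hk
        rw [h8, zpow_one] at hk
        exact hk.symm
    have h9 : Nat.card X ≤ 2 := by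
      have h10 : (⊤ : Subgroup X) ≤ zpowers a := by
        intro b _
        rcases hone b with h | h
        · rw [h]; exact one_mem _
        · rw [h]; exact mem_zpowers a
      have h11 := Subgroup.card_le_of_le h10
      rwa [Subgroup.card_top, Nat.card_zpowers, ha] at h11
    omega
  have h6 : (T : Subgroup X).index = 3 := by
    have h7 : (T : Subgroup X).index ≤ 6 := Nat.le_of_dvd (by norm_num) h3
    generalize (T : Subgroup X).index = k at *
    interval_cases k <;> omega
  apply Cfsg.Agent.TwoFusion.QuatSolvable.equiv_A4 (G := X) _ (T : Subgroup X) hT hel.2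
  · intro g hg
    apply hcent
    rw [mem_centralizer_iff]
    exact fun v hv => (hg v hv).symm
  · rw [← (T : Subgroup X).card_mul_index, hT, h6]

/-- Elementary abelian Sylow 2-subgroups of order at least four. -/
theorem elem_main (hC : CentThm.{u}) (hR : ReeThm.{u}) (hS : Step.{u})
    (hD : ∀ p : ℕ, p.Prime → EqConj p X) (hO : Cfsg.oddCore X = ⊥) (T : Sylow 2 X)
    (hel : Cfsg.IsElementaryAbelian 2 (T : Subgroup X)) (n : ℕ) (hn : 2 ≤ n) (hT : Nat.card T = 2 ^ n) :
    (n ≠ 2 ∧ (Nonempty (X ≃* Cfsg.affineGroup (GaloisField 2 3)) ∨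
      Nonempty (X ≃* Cfsg.semiaffineGroup (GaloisField 2 3)) ∨
      Nonempty (X ≃* Cfsg.semiaffineGroup (GaloisField 2 5)) ∨
      (Cfsg.IsJ1 X ∧ IsJR X) ∨
      Nonempty (X ≃* Matrix.ProjectiveSpecialLinearGroup (Fin 2) (GaloisField 2 3)) ∨
      Nonempty (X ≃* MulAut (Matrix.ProjectiveSpecialLinearGroup (Fin 2) (GaloisField 2 5))))) ∨
    (n = 2 ∧ ∃ (p : ℕ) (_ : Fact p.Prime), (p % 8 = 3 ∨ p % 8 = 5) ∧
      (Nonempty (X ≃* Matrix.ProjectiveSpecialLinearGroup (Fin 2) (ZMod p)) ∨
       Nonempty (X ≃* Matrix.ProjectiveSpecialLinearGroup (Fin 2) (GaloisField p 3)))) := by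
  have h2 : Fact (Nat.Prime 2) := ⟨Nat.prime_two⟩
  have hodd := eq_bot_of_odd hO
  have hc : ∀ a ∈ (T : Subgroup X), ∀ b ∈ (T : Subgroup X), a * b = b * a := fun a ha b hb =>
    congrArg Subtype.val (hel.1.is_comm.comm (⟨a, ha⟩ : (T : Subgroup X)) ⟨b, hb⟩)
  have hTne : (T : Subgroup X) ≠ ⊥ := by
    intro h
    rw [h, Subgroup.card_bot] at hT
    have : 2 ^ 2 ≤ 2 ^ n := Nat.pow_le_pow_right (by norm_num) hn
    omega
  have htop : (⊤ : Subgroup X) ≠ ⊥ := fun h => hTne (le_bot_iff.mp (h ▸ le_top))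
  obtain ⟨N, hN, hN1, -, hmin⟩ := exists_minimal_normal (⊤ : Subgroup X) inferInstance htop
  have hNe : 2 ∣ Nat.card N := by
    rw [← even_iff_two_dvd, ← Nat.not_odd_iff_even]
    exact fun h => hN1 (hodd N hN h)
  have hTN : (T : Subgroup X) ≤ N := fun a ha => (hD 2 Nat.prime_two).mem_of_normal N hNe a (hel.2 a ha)
  by_cases hna : ∀ x ∈ N, ∀ y ∈ N, Commute x y
  · -- `T` is normal
    have hTn : (T : Subgroup X).Normal := by
      let T' : Sylow 2 N := T.subtype hTN
      have hT'n : (T' : Subgroup N).Normal := ⟨fun a ha g => by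
        have : g * a * g⁻¹ = a := by
          apply Subtype.ext
          have h3 : (g : X) * a = a * g := hna g g.2 a a.2
          show (g : X) * a * (g : X)⁻¹ = a
          rw [h3, mul_inv_cancel_right]
        rw [this]; exact ha⟩
      have hT'c : (T' : Subgroup N).Characteristic := Sylow.characteristic_of_normal T' hT'n
      have h3 : ((T' : Subgroup N).map N.subtype).Normal := inferInstance
      have h4 : (T' : Subgroup N).map N.subtype = (T : Subgroup X) := by
        have h5 : (T' : Subgroup N) = (T : Subgroup X).subgroupOf N := rfl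
        rw [h5, Subgroup.subgroupOf_map_subtype, inf_eq_left.mpr hTN]
      rwa [h4] at h3
    rcases Nat.lt_or_ge n 3 with h5 | h5
    · have h6 : n = 2 := by omega
      subst h6
      right
      refine ⟨rfl, 3, ⟨Nat.prime_three⟩, Or.inl (by norm_num), Or.inl ?_⟩
      obtain ⟨e1⟩ := equiv_a4 (hD 2 Nat.prime_two) hO T hTn hel (by rw [hT]; norm_num)
      have h3F : Fact (Nat.Prime 3) := ⟨Nat.prime_three⟩
      obtain ⟨e2⟩ := Cfsg.Agent.S0251.result (F := ZMod 3) (ZMod.card 3)
      exact ⟨e1.trans e2.symm⟩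
    · left
      refine ⟨by omega, ?_⟩
      rcases affine_cases (hD 2 Nat.prime_two) hO T hTn n h5 hel hT with h | h | h
      · exact Or.inl h
      · exact Or.inr (Or.inl h)
      · exact Or.inr (Or.inr (Or.inl h))
  · have hs : IsSimpleGroup N := isSimpleGroup_of_minimal (hD 2 Nat.prime_two) N hmin hna hNe
    have hall : ∀ T' : Sylow 2 X, Cfsg.IsElementaryAbelian 2 (T' : Subgroup X) := by
      intro T'
      let e := T'.equiv T
      refine ⟨⟨⟨fun a b => e.injective ?_⟩⟩, fun a ha => ?_⟩
      · rw [map_mul, map_mul]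
        exact hel.1.is_comm.comm _ _
      · have h3 : (⟨a, ha⟩ : (T' : Subgroup X)) ^ 2 = 1 := by
          apply e.injective
          rw [map_pow, map_one]
          exact Subtype.ext (hel.2 _ (e ⟨a, ha⟩).2)
        exact congrArg Subtype.val h3
    have hSett : Sett X N := by
      refine ⟨hD, hodd, ?_, hall, hN, hs, hna, hNe⟩
      intro p hp P
      rcases Cfsg.Agent.S4020.result (fun p hp => hD p hp) P with h3 | h3 | ⟨⟨e⟩⟩
      · exact Or.inl h3
      · exact Or.inr h3
      · right
        have h4 : Nat.card (P : Subgroup X) = 8 := by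
          rw [Nat.card_congr e.toEquiv, Nat.card_eq_fintype_card, QuaternionGroup.card]
        obtain ⟨k, hk⟩ := IsPGroup.iff_card.mp P.isPGroup'
        have h5 : p = 2 := by
          rw [h4] at hk
          have h6 : p ∣ 2 ^ 3 := by
            have h7 : k ≠ 0 := by
              rintro rfl
              norm_num at hk
            rw [show 2 ^ 3 = 8 from rfl, hk]
            exact dvd_pow_self p h7
          exact (Nat.prime_dvd_prime_iff_eq hp.out Nat.prime_two).mp (hp.out.dvd_of_dvd_pow h6)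
        subst h5
        exact hall P
    have hna' : ¬ IsMulCommutative N := by
      intro hc'
      apply hna
      intro x hx y hy
      exact congrArg Subtype.val (hc'.is_comm.comm ⟨x, hx⟩ ⟨y, hy⟩)
    have hW : _root_.Cfsg.Agent.Walter.Types.WType N := by
      apply wType_of_step hS N hs hna' (T.subtype hTN)
      intro a ha b hb
      exact Subtype.ext (hc a ha b hb)
    rcases hSett.main hC hR hW T n hT with ⟨h3, h4 | h4 | h4⟩ | h3
    · exact Or.inl ⟨h3, Or.inr (Or.inr (Or.inr (Or.inl h4)))⟩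
    · exact Or.inl ⟨h3, Or.inr (Or.inr (Or.inr (Or.inr (Or.inl h4))))⟩
    · exact Or.inl ⟨h3, Or.inr (Or.inr (Or.inr (Or.inr (Or.inr h4))))⟩
    · exact Or.inr h3

end Cfsg.Agent.H500
end

-- part: H500/QuatMain
section
/-!
# Groups without normal subgroups of odd order in which `p`-subgroups of the same order are conjugate
-/

set_option autoImplicit false

namespace Cfsg.Agent.H500

open Subgroup Cfsg.Agent.H501 Cfsg.Agent.Walter.Types Cfsg.Agent.Walter.TypeSylow Cfsg.Agent.Walter.Main
open Cfsg.Agent.ClassificationK.WalterIso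

universe u

variable {X : Type u} [Group X] [Finite X]

theorem quat_sq : ∀ a b : QuaternionGroup 2, b ≠ 1 → b * b = 1 → a * a = 1 ∨ a * a = b := by decide

/-- Quaternion Sylow 2-subgroups of order eight. -/
theorem quat_main (hC : CentThm.{u}) (hR : ReeThm.{u}) (hS : Step.{u})
    (hD : ∀ p : ℕ, p.Prime → EqConj p X) (hO : Cfsg.oddCore X = ⊥) (T : Sylow 2 X)
    (e : (T : Subgroup X) ≃* QuaternionGroup 2) :
    ∃ (p : ℕ) (_ : Fact p.Prime), (p % 8 = 3 ∨ p % 8 = 5) ∧
      (Nonempty (X ≃* Matrix.SpecialLinearGroup (Fin 2) (ZMod p)) ∨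
       Nonempty (X ≃* Matrix.SpecialLinearGroup (Fin 2) (GaloisField p 3))) := by
  have h2 : Fact (Nat.Prime 2) := ⟨Nat.prime_two⟩
  have hodd := eq_bot_of_odd hO
  have hZ : Nat.card (center X) = 2 := Cfsg.Agent.S0201.result T 0 e (fun M hM h => hodd M hM h)
  obtain ⟨⟨z, hz⟩, hzo⟩ := exists_prime_orderOf_dvd_card' (G := center X) 2 (by rw [hZ])
  have hz2 : orderOf z = 2 := by rw [← hzo]; exact (orderOf_mk z hz).symm
  have hzc : ∀ g, g * z = z * g := mem_center_iff.mp hz
  have hn : (zpowers z).Normal := by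
    constructor
    intro a ha g
    obtain ⟨k, rfl⟩ := mem_zpowers_iff.mp ha
    have : g * z ^ k * g⁻¹ = z ^ k := by
      have h3 : Commute g (z ^ k) := (show Commute g z from hzc g).zpow_right k
      rw [h3.eq, mul_inv_cancel_right]
    rw [this]
    exact ha
  have hTcard : Nat.card (T : Subgroup X) = 8 := by
    rw [Nat.card_congr e.toEquiv, Nat.card_eq_fintype_card, QuaternionGroup.card]
  -- `z ∈ T`
  have hzT : z ∈ (T : Subgroup X) := by
    have h3 : IsPGroup 2 (zpowers z) := IsPGroup.of_card (n := 1) (by rw [Nat.card_zpowers, hz2, pow_one])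
    obtain ⟨Q, hQ⟩ := h3.exists_le_sylow
    obtain ⟨g, hg⟩ := MulAction.exists_smul_eq X Q T
    have h4 : g * z * g⁻¹ ∈ (T : Subgroup X) := by
      rw [← hg, Sylow.coe_subgroup_smul]
      exact Subgroup.smul_mem_pointwise_smul z (MulAut.conj g) _ (hQ (mem_zpowers z))
    rwa [hzc g, mul_inv_cancel_right] at h4
  have hsq : ∀ t ∈ (T : Subgroup X), t ^ 2 ∈ zpowers z := by
    intro t ht
    have h3 := quat_sq (e ⟨t, ht⟩) (e ⟨z, hzT⟩) (by
      intro h
      have h4 : (⟨z, hzT⟩ : (T : Subgroup X)) = 1 := e.injective (by rw [h, map_one])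
      have h5 : z = 1 := congrArg Subtype.val h4
      rw [h5, orderOf_one] at hz2
      omega) (by
      rw [← map_mul]
      have h4 : (⟨z, hzT⟩ : (T : Subgroup X)) * ⟨z, hzT⟩ = 1 := by
        apply Subtype.ext
        show z * z = 1
        rw [← pow_two, ← hz2, pow_orderOf_eq_one]
      rw [h4, map_one])
    rw [← map_mul] at h3
    rcases h3 with h3 | h3
    · have h4 : (⟨t, ht⟩ : (T : Subgroup X)) * ⟨t, ht⟩ = 1 := e.injective (by rw [h3, map_one])
      have h5 : t * t = 1 := congrArg Subtype.val h4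
      rw [pow_two, h5]
      exact one_mem _
    · have h4 := e.injective h3
      have h5 : t * t = z := congrArg Subtype.val h4
      rw [pow_two, h5]
      exact mem_zpowers z
  -- the quotient
  let π : X →* X ⧸ zpowers z := QuotientGroup.mk' (zpowers z)
  have hπ : Function.Surjective π := QuotientGroup.mk'_surjective _
  have hDY : ∀ p : ℕ, p.Prime → EqConj p (X ⧸ zpowers z) := by
    intro p hp
    have : Fact p.Prime := ⟨hp⟩
    exact EqConj.of_surjective (hD p hp) π hπ
  have hOY : Cfsg.oddCore (X ⧸ zpowers z) = ⊥ := by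
    have hMn : (Cfsg.oddCore (X ⧸ zpowers z)).Normal := Lib.Cores.pPrimeCore_normal 2
    have hMo : (Nat.card (Cfsg.oddCore (X ⧸ zpowers z))).Coprime 2 := Lib.Cores.pPrimeCore_coprime 2
    set M := Cfsg.oddCore (X ⧸ zpowers z) with hM
    let L : Subgroup X := M.comap π
    have hL : L ≤ (T : Subgroup X) := by
      apply Cfsg.Agent.LFourA.OddFree.le_of_cyclic hO T L (x := z)
      intro y hy hyT
      have h3 : π y ∈ M := hy
      have h4 : (orderOf (π y)).Coprime 2 := by
        have : orderOf (π y) ∣ Nat.card M := by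
          have h5 : orderOf (⟨π y, h3⟩ : M) ∣ Nat.card M := _root_.orderOf_dvd_natCard _
          rwa [Subgroup.orderOf_mk] at h5
        exact Nat.Coprime.coprime_dvd_left this hMo
      obtain ⟨k, hk⟩ := T.isPGroup' ⟨y, hyT⟩
      have h5 : y ^ 2 ^ k = 1 := congrArg Subtype.val hk
      have h6 : orderOf (π y) ∣ 2 ^ k := orderOf_dvd_of_pow_eq_one (by rw [← map_pow, h5, map_one])
      have h7 : orderOf (π y) = 1 := Nat.eq_one_of_dvd_coprimes (h4.pow_right k) (dvd_refl _) h6
      exact (QuotientGroup.eq_one_iff y).mp (orderOf_eq_one_iff.mp h7)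
    rw [eq_bot_iff]
    intro w hw
    obtain ⟨y, rfl⟩ := hπ w
    have hyT : y ∈ (T : Subgroup X) := hL hw
    have h4 : (orderOf (π y)).Coprime 2 := by
      have : orderOf (π y) ∣ Nat.card M := by
        have h5 : orderOf (⟨π y, hw⟩ : M) ∣ Nat.card M := _root_.orderOf_dvd_natCard _
        rwa [Subgroup.orderOf_mk] at h5
      exact Nat.Coprime.coprime_dvd_left this hMo
    obtain ⟨k, hk⟩ := T.isPGroup' ⟨y, hyT⟩
    have h5 : y ^ 2 ^ k = 1 := congrArg Subtype.val hk
    have h6 : orderOf (π y) ∣ 2 ^ k := orderOf_dvd_of_pow_eq_one (by rw [← map_pow, h5, map_one])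
    have h7 : orderOf (π y) = 1 := Nat.eq_one_of_dvd_coprimes (h4.pow_right k) (dvd_refl _) h6
    exact mem_bot.mpr (orderOf_eq_one_iff.mp h7)
  let T' : Sylow 2 (X ⧸ zpowers z) := T.mapSurjective hπ
  have hT'c : (T' : Subgroup (X ⧸ zpowers z)) = (T : Subgroup X).map π := Sylow.coe_mapSurjective hπ T
  have hT'sq : ∀ t ∈ (T' : Subgroup (X ⧸ zpowers z)), t ^ 2 = 1 := by
    intro t ht
    rw [hT'c] at ht
    obtain ⟨y, hy, rfl⟩ := ht
    rw [← map_pow]
    exact (QuotientGroup.eq_one_iff _).mpr (hsq y hy)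
  have hT'el : Cfsg.IsElementaryAbelian 2 (T' : Subgroup (X ⧸ zpowers z)) := by
    refine ⟨⟨⟨fun a b => ?_⟩⟩, hT'sq⟩
    have ha := hT'sq _ a.2
    have hb := hT'sq _ b.2
    have hab := hT'sq _ (mul_mem a.2 b.2)
    apply Subtype.ext
    rw [pow_two] at ha hb hab
    show (a : X ⧸ zpowers z) * b = b * a
    calc (a : X ⧸ zpowers z) * b = ((a : X ⧸ zpowers z) * b)⁻¹ := (inv_eq_of_mul_eq_one_right hab).symm
      _ = (b : X ⧸ zpowers z)⁻¹ * (a : X ⧸ zpowers z)⁻¹ := mul_inv_rev _ _
      _ = b * a := by rw [inv_eq_of_mul_eq_one_right ha, inv_eq_of_mul_eq_one_right hb]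
  have hT'card : Nat.card T' = 2 ^ 2 := by
    have h3 := card_map_mul (zpowers z) (T : Subgroup X)
    have h4 : (T : Subgroup X) ⊓ zpowers z = zpowers z := inf_eq_right.mpr (zpowers_le.mpr hzT)
    have h5 : Nat.card (T' : Subgroup (X ⧸ zpowers z)) = Nat.card ((T : Subgroup X).map π) := by rw [hT'c]
    rw [h4, Nat.card_zpowers, hz2, hTcard] at h3
    change 2 * Nat.card ((T : Subgroup X).map π) = 8 at h3
    rw [← h5] at h3
    omega
  rcases elem_main hC hR hS hDY hOY T' hT'el 2 le_rfl hT'card with ⟨h3, -⟩ | ⟨-, p, hp, hp8, h3⟩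
  · exact absurd rfl h3
  · refine ⟨p, hp, hp8, ?_⟩
    have hpodd : Odd p := by
      rw [Nat.odd_iff]; omega
    rcases h3 with ⟨⟨φ⟩⟩ | ⟨⟨φ⟩⟩
    · left
      exact Cfsg.Agent.TwoFusion.QuatCoverSL.mulEquiv_sl_two z hz hz2 T 1 le_rfl e (by rw [ZMod.card]; exact hpodd) φ
    · right
      have : Fintype (GaloisField p 3) := Fintype.ofFinite _
      refine Cfsg.Agent.TwoFusion.QuatCoverSL.mulEquiv_sl_two z hz hz2 T 1 le_rfl e ?_ φ
      rw [← Nat.card_eq_fintype_card, GaloisField.card p 3 (by norm_num)]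
      exact hpodd.pow

/-- **The list**, for groups without normal subgroups of odd order. -/
theorem main_oddFree (hC : CentThm.{u}) (hR : ReeThm.{u}) (hS : Step.{u})
    (hD : ∀ p : ℕ, p.Prime → EqConj p X) (hO : Cfsg.oddCore X = ⊥) :
    (IsCyclic X ∧ IsPGroup 2 X) ∨
    Nonempty (X ≃* Cfsg.affineGroup (GaloisField 2 3)) ∨
    Nonempty (X ≃* Cfsg.semiaffineGroup (GaloisField 2 3)) ∨
    Nonempty (X ≃* Cfsg.semiaffineGroup (GaloisField 2 5)) ∨
    (Cfsg.IsJ1 X ∧ IsJR X) ∨
    Nonempty (X ≃* Matrix.ProjectiveSpecialLinearGroup (Fin 2) (GaloisField 2 3)) ∨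
    Nonempty (X ≃* MulAut (Matrix.ProjectiveSpecialLinearGroup (Fin 2) (GaloisField 2 5))) ∨
    (∃ (p : ℕ) (_ : Fact p.Prime), (p % 8 = 3 ∨ p % 8 = 5) ∧
      (Nonempty (X ≃* Matrix.ProjectiveSpecialLinearGroup (Fin 2) (ZMod p)) ∨
       Nonempty (X ≃* Matrix.ProjectiveSpecialLinearGroup (Fin 2) (GaloisField p 3)) ∨
       Nonempty (X ≃* Matrix.SpecialLinearGroup (Fin 2) (ZMod p)) ∨
       Nonempty (X ≃* Matrix.SpecialLinearGroup (Fin 2) (GaloisField p 3)))) := by
  have h2 : Fact (Nat.Prime 2) := ⟨Nat.prime_two⟩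
  obtain ⟨T⟩ : Nonempty (Sylow 2 X) := inferInstance
  have hcyc : IsCyclic (T : Subgroup X) → IsCyclic X ∧ IsPGroup 2 X := by
    intro h
    obtain ⟨⟨x, hx⟩, hgen⟩ := h.exists_generator
    have h3 : (⊤ : Subgroup X) ≤ T := by
      apply Cfsg.Agent.LFourA.OddFree.le_of_cyclic hO T ⊤ (x := x)
      intro y _ hy
      obtain ⟨k, hk⟩ := mem_zpowers_iff.mp (hgen ⟨y, hy⟩)
      exact mem_zpowers_iff.mpr ⟨k, congrArg Subtype.val hk⟩
    have h4 : (T : Subgroup X) = ⊤ := top_le_iff.mp h3
    have e1 : (T : Subgroup X) ≃* X := (MulEquiv.subgroupCongr h4).trans Subgroup.topEquiv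
    exact ⟨e1.isCyclic.mp h, T.isPGroup'.of_equiv e1⟩
  rcases Cfsg.Agent.S4020.result (fun p hp => hD p hp) T with h | h | ⟨⟨e⟩⟩
  · exact Or.inl (hcyc h)
  · obtain ⟨n, hn⟩ := IsPGroup.iff_card.mp T.isPGroup'
    rcases Nat.lt_or_ge n 2 with h3 | h3
    · left
      apply hcyc
      interval_cases n
      · rw [pow_zero] at hn
        have := (Nat.card_eq_one_iff_unique.mp hn).1
        exact isCyclic_of_subsingleton
      · rw [pow_one] at hn
        exact isCyclic_of_prime_card hn
    · rcases elem_main hC hR hS hD hO T h n h3 hn with ⟨-, h4 | h4 | h4 | h4 | h4 | h4⟩ | ⟨-, p, hp, hp8, h4⟩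
      · exact Or.inr (Or.inl h4)
      · exact Or.inr (Or.inr (Or.inl h4))
      · exact Or.inr (Or.inr (Or.inr (Or.inl h4)))
      · exact Or.inr (Or.inr (Or.inr (Or.inr (Or.inl h4))))
      · exact Or.inr (Or.inr (Or.inr (Or.inr (Or.inr (Or.inl h4)))))
      · exact Or.inr (Or.inr (Or.inr (Or.inr (Or.inr (Or.inr (Or.inl h4))))))
      · refine Or.inr (Or.inr (Or.inr (Or.inr (Or.inr (Or.inr (Or.inr ⟨p, hp, hp8, ?_⟩))))))
        rcases h4 with h4 | h4
        · exact Or.inl h4
        · exact Or.inr (Or.inl h4)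
  · obtain ⟨p, hp, hp8, h4⟩ := quat_main hC hR hS hD hO T e
    refine Or.inr (Or.inr (Or.inr (Or.inr (Or.inr (Or.inr (Or.inr ⟨p, hp, hp8, ?_⟩))))))
    rcases h4 with h4 | h4
    · exact Or.inr (Or.inr (Or.inl h4))
    · exact Or.inr (Or.inr (Or.inr h4))

end Cfsg.Agent.H500
end
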